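import Mathlib
import Cfsg.Agent.Lib.Helper55.OOG.Defs

/-!
# Project OOG (S2413): package [ALG] — the algebra of Siegel transformations
-/

set_option autoImplicit false
open scoped Matrix

namespace Cfsg.Agent.Lib.Helper82.OOG

open Cfsg.Agent.Lib.Helper55.OOG

universe u

/-- [ALG] -/
theorem pkgAlg : PkgAlg.{u} := by
  intro m F _ u hu
  have huu : B u u = 0 := by rw [B_self, hu, mul_zero]
  refine ⟨?_, ?_, ?_, ?_, ?_, ?_⟩
  · intro v
    rw [one_act, B_zero_right, Q_zero]
    module
  · intro w w' σ σ' huw huw' hσ hσ' v
    have hw'u : B w' u = 0 := by rw [B_comm]; exact huw'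
    rw [mul_act, hσ' v, hσ (v + B v u • w' - (B v w' + QF m F w' * B v u) • u)]
    simp only [B_add_left, B_sub_left, B_smul_left, B_add_right, Q_add, huu, hw'u, huw,
      B_comm w' w]
    module
  · intro w σ huw hσ v
    have hwu : B w u = 0 := by rw [B_comm]; exact huw
    have key : mat σ *ᵥ (v + B v u • (-w) - (B v (-w) + QF m F (-w) * B v u) • u) = v := by
      rw [hσ]
      simp only [B_add_left, B_sub_left, B_smul_left, B_neg_left, B_neg_right, Q_neg, huu, hwu,
        huw, B_self]
      module
    calc mat σ⁻¹ *ᵥ v
        = mat σ⁻¹ *ᵥ (mat σ *ᵥ (v + B v u • (-w) - (B v (-w) + QF m F (-w) * B v u) • u)) := by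
          rw [key]
      _ = _ := inv_act σ _
  · intro a w σ
    have key : ∀ v : Vec m F,
        v + B v (a • u) • w - (B v w + QF m F w * B v (a • u)) • (a • u) =
          v + B v u • (a • w) - (B v (a • w) + QF m F (a • w) * B v u) • u := by
      intro v
      simp only [B_smul_right, Q_smul]
      module
    constructor
    · intro h v
      rw [h v, key v]
    · intro h v
      rw [h v, key v]
  · intro a w σ huw
    have hwu : B w u = 0 := by rw [B_comm]; exact huw
    have key : ∀ v : Vec m F,
        v + B v u • (w + a • u) - (B v (w + a • u) + QF m F (w + a • u) * B v u) • u =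
          v + B v u • w - (B v w + QF m F w * B v u) • u := by
      intro v
      simp only [B_add_right, B_smul_right, Q_add, Q_smul, hu, hwu]
      module
    constructor
    · intro h v
      rw [h v, key v]
    · intro h v
      rw [h v, key v]
  · intro w σ hw huw
    have key : ∀ v : Vec m F,
        v + B v u • w - (B v w + QF m F w * B v u) • u =
          v + B v w • (-u) - (B v (-u) + QF m F (-u) * B v w) • w := by
      intro v
      simp only [B_neg_right, Q_neg, hu, hw]
      module
    constructor
    · intro h v
      rw [h v, key v]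
    · intro h v
      rw [h v, key v]

end Cfsg.Agent.Lib.Helper82.OOG
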